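import Cfsg.Agent.McLRecog.CertU.Steps0
import Cfsg.Agent.McLRecog.CertU.Steps1
import Cfsg.Agent.McLRecog.CertU.Steps2
import Cfsg.Agent.McLRecog.CertU.Steps3
import Cfsg.Agent.McLRecog.CertU.Steps4
import Cfsg.Agent.McLRecog.CertU.Steps5
import Cfsg.Agent.McLRecog.CertU.Steps6
import Cfsg.Agent.McLRecog.CertU.Steps7
import Cfsg.Agent.McLRecog.CertU.Steps8
import Cfsg.Agent.McLRecog.CertU.Steps9
import Cfsg.Agent.McLRecog.CertU.Steps10
import Cfsg.Agent.McLRecog.CertU.Steps11
import Cfsg.Agent.McLRecog.CertU.Steps12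
import Cfsg.Agent.McLRecog.CertU.Steps13
import Cfsg.Agent.McLRecog.CertU.Steps14
import Cfsg.Agent.McLRecog.CertU.Steps15
import Cfsg.Agent.McLRecog.CertU.Steps16
import Cfsg.Agent.McLRecog.CertU.Steps17
import Cfsg.Agent.McLRecog.CertU.Steps18
import Cfsg.Agent.McLRecog.CertU.Steps19

/-!
Generated coset enumeration certificate: validity.
-/

set_option autoImplicit false
set_option maxRecDepth 20000
set_option linter.style.longLine false

namespace Cfsg.Lib.McLRecog.CertU

open Cfsg.Lib.CosetCert

theorem steps_ok : Piece cert spec.length 0 39845 (part0 ++ part1 ++ part2 ++ part3 ++ part4 ++ part5 ++ part6 ++ part7 ++ part8 ++ part9 ++ part10 ++ part11 ++ part12 ++ part13 ++ part14 ++ part15 ++ part16 ++ part17 ++ part18 ++ part19) :=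
  (((((((((((((((((((part0_ok.cat part1_ok).cat part2_ok).cat part3_ok).cat part4_ok).cat part5_ok).cat part6_ok).cat part7_ok).cat part8_ok).cat part9_ok).cat part10_ok).cat part11_ok).cat part12_ok).cat part13_ok).cat part14_ok).cat part15_ok).cat part16_ok).cat part17_ok).cat part18_ok).cat part19_ok)

theorem tab0 : cert.tabPart 39845 0 200 = true := by decide +kernel

theorem tab200 : cert.tabPart 39845 200 75 = true := by decide +kernel

theorem rots_ok : cert.rotsOK rels spec = true := by decide +kernel

theorem valid : cert.Valid rels :=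
  steps_ok.valid (by decide) rots_ok (by decide +kernel) (Cert.tabPart_add tab0 tab200)

theorem fin_len : cert.fin.length = 275 := fin_length cert

end Cfsg.Lib.McLRecog.CertU
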